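import Groth.Agent.Ega41Jac.Zariski
import Mathlib.RingTheory.Smooth.Locus
import Mathlib.RingTheory.Localization.Ideal
import Mathlib.RingTheory.LocalRing.ResidueField.Ideal

/-!
# Jacobian criterion at a prime, with differentials at the residue field
-/

universe u

set_option autoImplicit false
set_option backward.isDefEq.respectTransparency false

open TensorProduct Algebra

namespace Groth.Pi1Smooth

variable {R A : Type u} [CommRing R] [CommRing A] [Algebra R A]

/-- Linear independence of differentials at a residue field is detected by derivations. -/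
theorem linearIndependent_D_iff_exists_det (κ : Type u) [Field κ] [Algebra A κ] [Algebra R κ]
    [IsScalarTower R A κ] {m : ℕ} (a : Fin m → A) :
    LinearIndependent κ (fun i => (1 : κ) ⊗ₜ[A] KaehlerDifferential.D R A (a i)) ↔
      ∃ δ : Fin m → Derivation R A κ, (Matrix.of fun i j => δ j (a i)).det ≠ 0 := by
  classical
  constructor
  · intro h
    let v : (Fin m → κ) →ₗ[κ] κ ⊗[A] Ω[A⁄R] :=
      Fintype.linearCombination κ (fun i => (1 : κ) ⊗ₜ[A] KaehlerDifferential.D R A (a i))
    have hv : Function.Injective v := linearIndependent_iff_injective_fintypeLinearCombination.mp h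
    obtain ⟨w, hw⟩ := v.exists_leftInverse_of_injective (LinearMap.ker_eq_bot.mpr hv)
    let l : Fin m → (Ω[A⁄R] →ₗ[A] κ) := fun j =>
      ((LinearMap.proj j ∘ₗ w).restrictScalars A) ∘ₗ TensorProduct.mk A κ Ω[A⁄R] 1
    refine ⟨fun j => (l j).compDer (KaehlerDifferential.D R A), ?_⟩
    have : (Matrix.of fun i j => (l j).compDer (KaehlerDifferential.D R A) (a i)) = 1 := by
      ext i j
      show w ((1 : κ) ⊗ₜ[A] KaehlerDifferential.D R A (a i)) j = _
      have h1 : v (Pi.single i 1) = (1 : κ) ⊗ₜ[A] KaehlerDifferential.D R A (a i) := by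
        simp [v, Fintype.linearCombination_apply_single]
      rw [← h1, ← LinearMap.comp_apply, hw, LinearMap.id_apply, Matrix.one_apply, Pi.single_apply]
      simp only [eq_comm]
    rw [this, Matrix.det_one]
    exact one_ne_zero
  · rintro ⟨δ, hδ⟩
    rw [Fintype.linearIndependent_iff]
    intro c hc
    let M : Matrix (Fin m) (Fin m) κ := Matrix.of fun i j => δ j (a i)
    have h1 : Matrix.vecMul c M = 0 := by
      funext j
      have h2 := congrArg ((δ j).liftKaehlerDifferential.liftBaseChange κ) hc
      simpa [Matrix.vecMul, dotProduct, M, map_sum, LinearMap.liftBaseChange_tmul,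
        Derivation.liftKaehlerDifferential_comp_D] using h2
    exact fun i => congrFun (Matrix.eq_zero_of_vecMul_eq_zero hδ h1) i

variable [IsNoetherianRing A] (I : Ideal A) (P : Ideal (A ⧸ I)) [P.IsPrime]

/-- The Jacobian criterion at a prime at which the ambient algebra is smooth. -/
theorem isSmoothAt_quotient_iff
    (hX : Algebra.IsSmoothAt R (P.comap (Ideal.Quotient.mk I)))
    [EssFiniteType R A] :
    letI q : Ideal A := P.comap (Ideal.Quotient.mk I)
    Algebra.IsSmoothAt R P ↔ ∃ (m : ℕ) (a : Fin m → A), (∀ i, a i ∈ I) ∧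
      I.map (algebraMap A (Localization.AtPrime q)) =
        Ideal.span (Set.range fun i => algebraMap A (Localization.AtPrime q) (a i)) ∧
      LinearIndependent q.ResidueField
        (fun i => (1 : q.ResidueField) ⊗ₜ[A] KaehlerDifferential.D R A (a i)) := by
  let q : Ideal A := P.comap (Ideal.Quotient.mk I)
  let L := Localization.AtPrime q
  haveI : Algebra.FormallySmooth R L := hX
  let J : Ideal L := I.map (algebraMap A L)
  have hS : Algebra.algebraMapSubmonoid (A ⧸ I) q.primeCompl = P.primeCompl :=
    P.map_primeCompl_comap_of_surjective _ Ideal.Quotient.mk_surjective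
  haveI : IsLocalization P.primeCompl (L ⧸ J) := hS ▸ inferInstance
  let e : (L ⧸ J) ≃ₐ[A ⧸ I] Localization.AtPrime P := IsLocalization.algEquiv P.primeCompl _ _
  have hIq : I ≤ q := fun x hx => by
    show Ideal.Quotient.mk I x ∈ P
    rw [Ideal.Quotient.eq_zero_iff_mem.mpr hx]
    exact P.zero_mem
  have hJ : J ≤ IsLocalRing.maximalIdeal L := by
    rw [← IsLocalization.AtPrime.map_eq_maximalIdeal q L]
    exact Ideal.map_mono hIq
  haveI : Nontrivial (L ⧸ J) := Ideal.Quotient.nontrivial_iff.mpr fun h =>
    (IsLocalRing.maximalIdeal.isMaximal L).ne_top (top_le_iff.mp (h ▸ hJ))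
  haveI : IsLocalRing (L ⧸ J) :=
    IsLocalRing.of_surjective' (Ideal.Quotient.mk J) Ideal.Quotient.mk_surjective
  haveI : IsScalarTower R (A ⧸ I) (L ⧸ J) := IsScalarTower.of_algebraMap_eq fun r => by
    rw [IsScalarTower.algebraMap_apply R A (L ⧸ J) r, IsScalarTower.algebraMap_apply R A (A ⧸ I) r]
    rfl
  let m' : Ideal (L ⧸ J) := (IsLocalRing.maximalIdeal L).map (Ideal.Quotient.mk J)
  have hm' : m' = IsLocalRing.maximalIdeal (L ⧸ J) := by
    refine IsLocalRing.eq_maximalIdeal
      ((Ideal.map_eq_top_or_isMaximal_of_surjective _ Ideal.Quotient.mk_surjective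
        (IsLocalRing.maximalIdeal.isMaximal L)).resolve_left fun h => ?_)
    have := congrArg (Ideal.comap (Ideal.Quotient.mk J)) h
    rw [Ideal.comap_map_of_surjective _ Ideal.Quotient.mk_surjective, ← RingHom.ker_eq_comap_bot,
      Ideal.mk_ker, sup_eq_left.mpr hJ, Ideal.comap_top] at this
    exact (IsLocalRing.maximalIdeal.isMaximal L).ne_top this
  haveI : m'.IsPrime := hm' ▸ (IsLocalRing.maximalIdeal.isMaximal _).isPrime
  have hunits : m'.primeCompl ≤ IsUnit.submonoid (L ⧸ J) := fun x hx =>
    IsLocalRing.notMem_maximalIdeal.mp (hm' ▸ hx)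
  let e' : (L ⧸ J) ≃ₐ[L ⧸ J] Localization.AtPrime m' := IsLocalization.atUnits _ m'.primeCompl hunits
  have hiff : Algebra.IsSmoothAt R P ↔ Algebra.FormallySmooth R (Localization.AtPrime m') :=
    (FormallySmooth.iff_of_equiv (e.restrictScalars R)).symm.trans
      (FormallySmooth.iff_of_equiv (e'.restrictScalars R))
  show Algebra.IsSmoothAt R P ↔ _
  rw [hiff, Groth.Ega41Jac.formallySmooth_localization_iff_exists_det hJ]
  have hbij : Function.Bijective (algebraMap L (Localization.AtPrime (IsLocalRing.maximalIdeal L))) :=
    (IsLocalization.atUnits L (IsLocalRing.maximalIdeal L).primeCompl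
      fun x hx => IsLocalRing.notMem_maximalIdeal.mp hx).bijective
  have hspan : ∀ {m : ℕ} (f : Fin m → L),
      J.map (algebraMap L (Localization.AtPrime (IsLocalRing.maximalIdeal L))) =
        Ideal.span (Set.range fun i =>
          algebraMap L (Localization.AtPrime (IsLocalRing.maximalIdeal L)) (f i)) ↔
      J = Ideal.span (Set.range f) := fun f => by
    rw [Groth.Ega41Jac.span_range_comp_algebraMap]
    refine ⟨fun h => ?_, fun h => by rw [h]⟩
    have := congrArg (Ideal.comap (algebraMap L (Localization.AtPrime (IsLocalRing.maximalIdeal L)))) h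
    rwa [Ideal.comap_map_of_bijective _ hbij, Ideal.comap_map_of_bijective _ hbij] at this
  simp only [hspan]
  constructor
  · rintro ⟨m, f, D, hfJ, hJf, hdet⟩
    choose x hx using fun i => (IsLocalization.mem_map_algebraMap_iff q.primeCompl L).mp (hfJ i)
    let t : Fin m → L := fun i => algebraMap A L (x i).2.1
    have ht : ∀ i, IsUnit (t i) := fun i => IsLocalization.map_units L (x i).2
    refine ⟨m, fun i => (x i).1.1, fun i => (x i).1.2, ?_,
      (linearIndependent_D_iff_exists_det q.ResidueField _).mpr ⟨fun j =>
        (IsScalarTower.toAlgHom A L q.ResidueField).toLinearMap.compDer ((D j).compAlgebraMap A), ?_⟩⟩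
    · show J = _
      rw [hJf]
      refine le_antisymm (Ideal.span_le.mpr ?_) (Ideal.span_le.mpr ?_)
      · rintro _ ⟨i, rfl⟩
        exact (Ideal.mul_unit_mem_iff_mem _ (ht i)).mp ((hx i).symm ▸ Ideal.subset_span ⟨i, rfl⟩)
      · rintro _ ⟨i, rfl⟩
        show algebraMap A L (x i).1.1 ∈ _
        rw [← hx i]
        exact Ideal.mul_mem_right _ _ (Ideal.subset_span ⟨i, rfl⟩)
    · let res : L →+* q.ResidueField := IsLocalRing.residue L
      have hf0 : ∀ i, res (f i) = 0 := fun i =>
        Ideal.Quotient.eq_zero_iff_mem.mpr (hJ (hfJ i))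
      have hM : (Matrix.of fun i j => (IsScalarTower.toAlgHom A L q.ResidueField).toLinearMap.compDer
            ((D j).compAlgebraMap A) (x i).1.1) =
          Matrix.diagonal (fun i => res (t i)) * (res.mapMatrix (Matrix.of fun i j => D j (f i))) := by
        ext i j
        rw [Matrix.diagonal_mul]
        show res (D j (algebraMap A L (x i).1.1)) = res (t i) * res (D j (f i))
        rw [← hx i, Derivation.leibniz, smul_eq_mul, smul_eq_mul, map_add, map_mul, map_mul, hf0,
          zero_mul, zero_add]
      rw [hM, Matrix.det_mul, Matrix.det_diagonal, ← RingHom.map_det]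
      refine mul_ne_zero (Finset.prod_ne_zero_iff.mpr fun i _ => ((ht i).map res).ne_zero) ?_
      exact fun h => hdet (Ideal.Quotient.eq_zero_iff_mem.mp h)
  · rintro ⟨m, a, haI, hspanI, hind⟩
    obtain ⟨δ, hδ⟩ := (linearIndependent_D_iff_exists_det q.ResidueField a).mp hind
    haveI : EssFiniteType A L := EssFiniteType.of_isLocalization L q.primeCompl
    haveI : EssFiniteType R L := EssFiniteType.comp R A L
    let res : L →+* q.ResidueField := IsLocalRing.residue L
    have hu : ∀ x : q.primeCompl, IsUnit (algebraMap A (Module.End A q.ResidueField) x) := fun x => by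
      have hx : algebraMap A q.ResidueField x ≠ 0 := by
        rw [IsScalarTower.algebraMap_apply A L q.ResidueField]
        exact ((IsLocalization.map_units L x).map _).ne_zero
      rw [Module.End.isUnit_iff]
      have : (fun z : q.ResidueField => algebraMap A q.ResidueField x * z) =
          ⇑(algebraMap A (Module.End A q.ResidueField) x) := funext fun z => (Algebra.smul_def _ z).symm
      rw [← this]
      exact mulLeft_bijective₀ _ hx
    have hlift : ∀ j, ∃ D : Derivation R L L, ∀ b, res (D (algebraMap A L b)) = δ j b := fun j => by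
      let g := KaehlerDifferential.map R R A L
      let l₀ := IsLocalizedModule.lift q.primeCompl g (δ j).liftKaehlerDifferential hu
      let lT : Ω[L⁄R] →ₗ[L] q.ResidueField := l₀.extendScalarsOfIsLocalization q.primeCompl L
      obtain ⟨ψ, hψ⟩ := Module.projective_lifting_property (Algebra.linearMap L q.ResidueField) lT
        Ideal.Quotient.mk_surjective
      refine ⟨ψ.compDer (KaehlerDifferential.D R L), fun b => ?_⟩
      have h1 := LinearMap.congr_fun hψ (KaehlerDifferential.D R L (algebraMap A L b))
      refine h1.trans ?_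
      show l₀ (KaehlerDifferential.D R L (algebraMap A L b)) = _
      rw [← KaehlerDifferential.map_D R R A L b, IsLocalizedModule.lift_apply,
        Derivation.liftKaehlerDifferential_comp_D]
    choose D hD using hlift
    refine ⟨m, fun i => algebraMap A L (a i), D, fun i => Ideal.mem_map_of_mem _ (haI i), hspanI,
      fun hdet => hδ ?_⟩
    have h2 : res.mapMatrix (Matrix.of fun i j => D j (algebraMap A L (a i))) =
        Matrix.of fun i j => δ j (a i) := by
      ext i j
      exact hD j (a i)
    rw [← h2, ← RingHom.map_det]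
    exact Ideal.Quotient.eq_zero_iff_mem.mpr hdet

end Groth.Pi1Smooth
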